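import Groth.Agent.EtModRpushLib.Forget
import Groth.Prelude.Def_SixF2

/-!
Higher direct images of constant sheaves as functors of the coefficient group.
-/

set_option autoImplicit false
set_option linter.style.haveILetI false
set_option linter.unusedSectionVars false
set_option backward.isDefEq.respectTransparency false
set_option backward.isDefEq.respectTransparency.types false
set_option maxHeartbeats 1000000
set_option synthInstance.maxHeartbeats 200000

universe u

open CategoryTheory CategoryTheory.Limits AlgebraicGeometry Opposite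
open Groth.Agent.SpSeqLib Groth.Agent.EtSixLib

noncomputable section

namespace Groth.Agent.EtModRpushLib

variable (Λ : Type (u + 1)) [CommRing Λ]

/-- The underlying abelian sheaf of a constant sheaf of modules is constant. -/
def forgetConstIso (X : Scheme.{u}) :
    constantSheaf X.smallEtaleTopology (ModuleCat.{u + 1} Λ) ⋙ EtModD.forgetToAb Λ X ≅
      forget₂ (ModuleCat.{u + 1} Λ) AddCommGrpCat.{u + 1} ⋙
        constantSheaf X.smallEtaleTopology AddCommGrpCat.{u + 1} :=
  Adjunction.leftAdjointUniq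
    (((EtSix.constModAdj Λ X).comp (sheafForgetCoindAdj Λ X)).ofNatIsoRight
      (NatIso.ofComponents (fun G => Iso.refl _) (fun {A B} g => (Category.comp_id _).trans (Category.id_comp _).symm) :
        coindSheaf Λ X ⋙ EtSix.gsecMod Λ X ≅ EtCore.gsec X ⋙ coind Λ))
    ((forgetCoindAdj Λ).comp (EtCore.constAdj X))

variable {Λ}
variable {X S : Scheme.{u}} (f : X ⟶ S) (q : ℕ)

/-- Higher direct images of constant abelian sheaves. -/
abbrev phiAb : AddCommGrpCat.{u + 1} ⥤ EtCoh.Ab S :=
  constantSheaf X.smallEtaleTopology AddCommGrpCat.{u + 1} ⋙ EtCoh.Rpush f q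

variable (Λ) in
/-- Higher direct images of constant sheaves of modules. -/
abbrev phiMod : ModuleCat.{u + 1} Λ ⥤ EtModW.Mod Λ S :=
  constantSheaf X.smallEtaleTopology (ModuleCat.{u + 1} Λ) ⋙ EtModW.Rpush Λ f q

variable (Λ) in
/-- The underlying abelian sheaves of higher direct images of constant sheaves of modules. -/
def phiIso : forget₂ (ModuleCat.{u + 1} Λ) AddCommGrpCat.{u + 1} ⋙ phiAb f q ≅
    phiMod Λ f q ⋙ EtModD.forgetToAb Λ S :=
  Functor.isoWhiskerRight (forgetConstIso Λ X).symm (EtCoh.Rpush f q) ≪≫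
    Functor.isoWhiskerLeft (constantSheaf X.smallEtaleTopology (ModuleCat.{u + 1} Λ)) (forgetRpushIso f q)

instance additive_phiAb : (phiAb f q).Additive := by
  haveI : (EtCore.gsec X).Additive := ⟨fun {F G a b} => rfl⟩
  haveI : (constantSheaf X.smallEtaleTopology AddCommGrpCat.{u + 1}).Additive :=
    (EtCore.constAdj X).left_adjoint_additive
  infer_instance

section Scalar

/-- Multiplication by a scalar on modules. -/
def scalM (l : Λ) (M : ModuleCat.{u + 1} Λ) : M ⟶ M := ModuleCat.ofHom (LinearMap.lsmul Λ M l)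

/-- Multiplication by a scalar on sheaves of modules. -/
def scal (l : Λ) : 𝟭 (EtModW.Mod Λ X) ⟶ 𝟭 (EtModW.Mod Λ X) where
  app F := ⟨{ app := fun U => scalM l (F.obj.obj U)
              naturality := fun U V i => ModuleCat.hom_ext (LinearMap.ext fun x =>
                ((F.obj.map i).hom.map_smul l x).symm) }⟩
  naturality F G a := by
    refine ObjectProperty.hom_ext _ ?_
    refine NatTrans.ext (funext fun U => ?_)
    refine ModuleCat.hom_ext (LinearMap.ext fun x => ?_)
    exact ((a.hom.app U).hom.map_smul l x).symm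

theorem constMap_scalM (l : Λ) (M : ModuleCat.{u + 1} Λ) :
    (constantSheaf X.smallEtaleTopology (ModuleCat.{u + 1} Λ)).map (scalM l M) = (scal l).app _ := by
  refine ((EtSix.constModAdj Λ X).homEquiv _ _).injective ?_
  rw [Adjunction.homEquiv_unit, Adjunction.homEquiv_unit]
  refine ((EtSix.constModAdj Λ X).unit.naturality (scalM l M)).symm.trans ?_
  refine ModuleCat.hom_ext (LinearMap.ext fun x => ?_)
  exact ((EtSix.constModAdj Λ X).unit.app M).hom.map_smul l x

theorem homologyMap_scal (l : Λ) (K : CochainComplex (EtModW.Mod Λ S) ℕ)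
    (φ : K ⟶ K) (hφ : ∀ i, φ.f i = (scal l).app (K.X i)) (n : ℕ) :
    HomologicalComplex.homologyMap φ n = (scal l).app (K.homology n) := by
  rw [← cancel_epi (K.homologyπ n), HomologicalComplex.homologyπ_naturality]
  have hc : HomologicalComplex.cyclesMap φ n = (scal l).app (K.cycles n) := by
    rw [← cancel_mono (K.iCycles n), HomologicalComplex.cyclesMap_i, hφ]
    exact (scal l).naturality (K.iCycles n)
  rw [hc]
  exact ((scal l).naturality (K.homologyπ n)).symm

theorem Rpush_map_scal (l : Λ) (F : EtModW.Mod Λ X) :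
    (EtModW.Rpush Λ f q).map ((scal l).app F) = (scal l).app ((EtModW.Rpush Λ f q).obj F) := by
  let R := injectiveResolution F
  let φ : R.cocomplex ⟶ R.cocomplex :=
    { f := fun i => (scal l).app (R.cocomplex.X i)
      comm' := fun i j _ => ((scal l).naturality (R.cocomplex.d i j)).symm }
  have h := InjectiveResolution.isoRightDerivedObj_hom_naturality ((scal l).app F) R R φ
    ((scal l).naturality (R.ι.f 0)) (EtModW.push Λ f) q
  rw [← cancel_mono (R.isoRightDerivedObj (EtModW.push Λ f) q).hom, h]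
  refine Eq.trans ?_ ((scal l).naturality (R.isoRightDerivedObj (EtModW.push Λ f) q).hom)
  exact congrArg ((R.isoRightDerivedObj (EtModW.push Λ f) q).hom ≫ ·)
    (homologyMap_scal l _ _ (fun i => rfl) q)

theorem phiMod_map_scalM (l : Λ) (M : ModuleCat.{u + 1} Λ) :
    (phiMod Λ f q).map (scalM l M) = (scal l).app ((phiMod Λ f q).obj M) :=
  (congrArg (EtModW.Rpush Λ f q).map (constMap_scalM l M)).trans (Rpush_map_scal f q l _)

theorem forget_scal_apply (l : Λ) (F : EtModW.Mod Λ X) (U : X.Etale) (x : EtModW.sect Λ F U) :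
    ((EtModD.forgetToAb Λ X).map ((scal l).app F)).hom.app (op U) x = l • x := rfl

end Scalar

section Component

variable {ℓ : ℕ}

/-- The coefficient group `ℤ/ℓ`. -/
abbrev Zl (ℓ : ℕ) : AddCommGrpCat.{u + 1} := AddCommGrpCat.of (ULift.{u + 1} (ZMod ℓ))

variable (M : ModuleCat.{u + 1} Λ) (hM : ∀ m : M, (ℓ : ℤ) • m = 0)

/-- The map sending `1` to `m`. -/
def coefHom (m : M) : Zl ℓ ⟶ (forget₂ (ModuleCat.{u + 1} Λ) AddCommGrpCat.{u + 1}).obj M :=
  AddCommGrpCat.ofHom ((ZMod.lift ℓ ⟨zmultiplesHom M m, hM m⟩).comp AddEquiv.ulift.toAddMonoidHom)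

theorem coefHom_apply (m : M) (k : ℤ) : coefHom M hM m ⟨(k : ZMod ℓ)⟩ = k • m :=
  (ZMod.lift_coe ℓ ⟨zmultiplesHom M m, hM m⟩ k).trans rfl

theorem coefHom_one (m : M) : coefHom M hM m ⟨1⟩ = m := by
  have h := coefHom_apply M hM m 1
  rwa [Int.cast_one, one_smul] at h

theorem zlHom_ext {A : AddCommGrpCat.{u + 1}} {a b : Zl ℓ ⟶ A} (h : a ⟨1⟩ = b ⟨1⟩) : a = b := by
  refine AddCommGrpCat.hom_ext (AddMonoidHom.ext fun x => ?_)
  obtain ⟨x⟩ := x
  obtain ⟨k, rfl⟩ := ZMod.intCast_surjective x
  have hk : (⟨(k : ZMod ℓ)⟩ : Zl ℓ) = k • (⟨1⟩ : Zl ℓ) := ULift.ext _ _ (by simp)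
  rw [hk, map_zsmul, map_zsmul]
  exact congrArg (k • ·) h

theorem coefHom_add (m m' : M) : coefHom M hM (m + m') = coefHom M hM m + coefHom M hM m' :=
  zlHom_ext (by
    change _ = coefHom M hM m ⟨1⟩ + coefHom M hM m' ⟨1⟩
    rw [coefHom_one, coefHom_one, coefHom_one])

theorem coefHom_smul (l : Λ) (m : M) :
    coefHom M hM (l • m) = coefHom M hM m ≫ (forget₂ (ModuleCat.{u + 1} Λ) AddCommGrpCat.{u + 1}).map (scalM l M) :=
  zlHom_ext (by
    rw [coefHom_one]
    exact congrArg (l • ·) (coefHom_one M hM m).symm)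

/-- The component at `m` of the higher direct image. -/
def nu (m : M) : (phiAb f q).obj (Zl ℓ) ⟶ (EtModD.forgetToAb Λ S).obj ((phiMod Λ f q).obj M) :=
  (phiAb f q).map (coefHom M hM m) ≫ (phiIso Λ f q).hom.app M

theorem nu_add (m m' : M) : nu f q M hM (m + m') = nu f q M hM m + nu f q M hM m' := by
  rw [nu, coefHom_add, Functor.map_add, Preadditive.add_comp]
  rfl

theorem nu_smul (l : Λ) (m : M) :
    nu f q M hM (l • m) = nu f q M hM m ≫ (EtModD.forgetToAb Λ S).map ((scal l).app ((phiMod Λ f q).obj M)) := by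
  rw [nu, coefHom_smul, Functor.map_comp, Category.assoc, ← phiMod_map_scalM]
  exact (congrArg ((phiAb f q).map (coefHom M hM m) ≫ ·) ((phiIso Λ f q).hom.naturality (scalM l M))).trans
    (Category.assoc _ _ _).symm

theorem killed_phiAb (k : ℕ) (h : (k : ZMod ℓ) = 0) : (k : ℤ) • 𝟙 ((phiAb f q).obj (Zl ℓ)) = 0 := by
  rw [← CategoryTheory.Functor.map_id, ← Functor.map_zsmul]
  refine (congrArg (phiAb f q).map (zlHom_ext ?_)).trans (Functor.map_zero _ _ _)
  change (k : ℤ) • (⟨1⟩ : Zl ℓ) = 0
  exact ULift.ext _ _ (by simp [h])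

end Component

end Groth.Agent.EtModRpushLib

end
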