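import Groth.Agent.EtSixLib.HomSheaf
import Mathlib.CategoryTheory.Preadditive.Injective.Basic

/-!
An injective object among sheaves killed by `n` has no higher cohomology.
-/

set_option autoImplicit false
set_option linter.style.haveILetI false
set_option backward.isDefEq.respectTransparency false
set_option backward.isDefEq.respectTransparency.types false

universe u

open CategoryTheory CategoryTheory.Limits AlgebraicGeometry Opposite CategoryTheory.Abelian
open Groth.Agent.EtSixLib

noncomputable section

namespace Groth.Agent.EtModRpushLib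

variable {X : Scheme.{u}}

theorem killedBy_homSheaf_zmod (n : ℕ) (J : EtCoh.Ab X) :
    EtCoh.KilledBy n ((homSheaf (AddCommGrpCat.of (ULift.{u + 1} (ZMod n)))).obj J) := fun U s => by
  refine AddCommGrpCat.hom_ext (AddMonoidHom.ext fun x => ?_)
  show n • (ev s).hom x = 0
  rw [← map_nsmul, show n • x = 0 from ULift.ext _ _ (by simp), map_zero]

/-- The homomorphism sending `1` to `a`. -/
def liftOne (n : ℕ) (A : AddCommGrpCat.{u + 1}) (a : A) (ha : (n : ℤ) • a = 0) :
    AddCommGrpCat.of (ULift.{u + 1} (ZMod n)) ⟶ A :=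
  AddCommGrpCat.ofHom ((ZMod.lift n ⟨zmultiplesHom A a, ha⟩).comp AddEquiv.ulift.toAddMonoidHom)

theorem liftOne_apply (n : ℕ) (A : AddCommGrpCat.{u + 1}) (a : A) (ha : (n : ℤ) • a = 0) (k : ℤ) :
    liftOne n A a ha ⟨(k : ZMod n)⟩ = k • a :=
  (ZMod.lift_coe n ⟨zmultiplesHom A a, ha⟩ k).trans rfl

/-- An injective object of the category of sheaves killed by `n` has no higher cohomology. -/
theorem subsingleton_H_killed_injective (n : ℕ) (I : EtCoh.Ab X) (hI : EtCoh.KilledBy n I)
    (hinj : Injective (ObjectProperty.FullSubcategory.mk (P := fun F : EtCoh.Ab X => EtCoh.KilledBy n F) I hI))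
    (q : ℕ) : Subsingleton (EtCoh.H X I (q + 1)) := by
  let M : AddCommGrpCat.{u + 1} := AddCommGrpCat.of (ULift.{u + 1} (ZMod n))
  let J := Injective.under I
  let j := Injective.ι I
  let K := (homSheaf M).obj J
  let i : I ⟶ K :=
    ⟨{ app := fun U => AddCommGrpCat.ofHom
        { toFun := fun s => (liftOne n (J.obj.obj U) (j.hom.app U s) (by
            rw [natCast_zsmul, ← map_nsmul, hI U.unop s, map_zero]) : M ⟶ J.obj.obj U)
          map_zero' := by
            refine AddCommGrpCat.hom_ext (AddMonoidHom.ext fun x => ?_)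
            obtain ⟨x⟩ := x
            obtain ⟨k, rfl⟩ := ZMod.intCast_surjective x
            refine (liftOne_apply n _ _ _ k).trans ?_
            rw [map_zero, smul_zero]
            rfl
          map_add' := fun s t => by
            refine AddCommGrpCat.hom_ext (AddMonoidHom.ext fun x => ?_)
            obtain ⟨x⟩ := x
            obtain ⟨k, rfl⟩ := ZMod.intCast_surjective x
            refine (liftOne_apply n _ _ _ k).trans ?_
            change k • j.hom.app U (s + t) = liftOne n (J.obj.obj U) (j.hom.app U s) _ ⟨(k : ZMod n)⟩ +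
              liftOne n (J.obj.obj U) (j.hom.app U t) _ ⟨(k : ZMod n)⟩
            rw [liftOne_apply, liftOne_apply, map_add, smul_add] }
       naturality := fun U V a => by
        refine AddCommGrpCat.hom_ext (AddMonoidHom.ext fun s => ?_)
        refine AddCommGrpCat.hom_ext (AddMonoidHom.ext fun x => ?_)
        obtain ⟨x⟩ := x
        obtain ⟨k, rfl⟩ := ZMod.intCast_surjective x
        refine (liftOne_apply n _ _ _ k).trans ?_
        refine Eq.trans ?_ (congrArg (J.obj.map a) (liftOne_apply n _ _ _ k)).symm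
        rw [map_zsmul]
        exact congrArg (k • ·) (NatTrans.naturality_apply j.hom a s) }⟩
  haveI : Mono i := by
    haveI : ∀ U, Mono (i.hom.app U) := fun U => (AddCommGrpCat.mono_iff_injective _).2 fun s t h => by
      haveI : Mono (j.hom.app U) := ((evaluation X.Etaleᵒᵖ AddCommGrpCat.{u + 1}).obj U).map_mono
        ((sheafToPresheaf X.smallEtaleTopology AddCommGrpCat.{u + 1}).map j)
      refine (AddCommGrpCat.mono_iff_injective _).1 ‹Mono (j.hom.app U)› ?_
      have e : ∀ s, (ev (M := M) (J := J) (i.hom.app U s)) ⟨((1 : ℤ) : ZMod n)⟩ = j.hom.app U s := fun s =>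
        (liftOne_apply n _ _ _ 1).trans (one_zsmul _)
      exact (e s).symm.trans ((congrArg (fun z => (ev (M := M) (J := J) z) ⟨((1 : ℤ) : ZMod n)⟩) h).trans (e t))
    haveI : Mono i.hom := NatTrans.mono_of_mono_app _
    exact (sheafToPresheaf _ _).mono_of_mono_map (f := i) ‹Mono i.hom›
  let P : ObjectProperty (EtCoh.Ab X) := fun F => EtCoh.KilledBy n F
  let I' : P.FullSubcategory := ObjectProperty.FullSubcategory.mk I hI
  let K' : P.FullSubcategory := ObjectProperty.FullSubcategory.mk K (killedBy_homSheaf_zmod n J)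
  let i' : I' ⟶ K' := ObjectProperty.homMk i
  haveI : Mono i' := P.ι.mono_of_mono_map (f := i') ‹Mono i›
  haveI : Injective I' := hinj
  let r : K ⟶ I := (Injective.factorThru (𝟙 I') i').hom
  have hr : i ≫ r = 𝟙 I := congrArg (fun z : I' ⟶ I' => z.hom) (Injective.comp_factorThru (𝟙 I') i')
  haveI := subsingleton_H_homSheaf q M J
  refine subsingleton_of_forall_eq 0 fun x => ?_
  have : x = (x.comp (Ext.mk₀ i) (add_zero _)).comp (Ext.mk₀ r) (add_zero _) := by
    rw [Ext.comp_assoc_of_third_deg_zero, Ext.mk₀_comp_mk₀, hr, Ext.comp_mk₀_id]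
  rw [this, Subsingleton.elim (α := EtCoh.H X K (q + 1)) (x.comp (Ext.mk₀ i) (add_zero _)) 0, Ext.zero_comp]

end Groth.Agent.EtModRpushLib

end
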