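import Groth.Agent.EtModRpushLib.Stratum
import Groth.Agent.EtConsLib.General
import Groth.Agent.FinPushLib.Finiteness
import Groth.Agent.FinPushLib.CurveModelInput
import Groth.Agent.SmoothPushLib.Curve

/-!
Constructibility of proper higher direct images of constant sheaves of modules.
-/

set_option autoImplicit false
set_option linter.style.haveILetI false
set_option linter.unusedSectionVars false
set_option backward.isDefEq.respectTransparency false
set_option backward.isDefEq.respectTransparency.types false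
set_option maxHeartbeats 1000000
set_option synthInstance.maxHeartbeats 200000

universe u

open CategoryTheory CategoryTheory.Limits AlgebraicGeometry Opposite

noncomputable section

namespace Groth.Agent.EtModRpushLib

variable {Λ : Type (u + 1)} [CommRing Λ] [IsNoetherianRing Λ]

/-- Constructible sheaves of modules are closed under five term sequences. -/
theorem fiveClass_mod (X : Scheme.{u}) :
    FinPushLib.FiveClass (fun F : EtModW.Mod Λ X => EtModW.IsConstructible Λ F) where
  zero _ h := EtConsLib.isConstructible_of_isZero h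
  of_iso e h := EtConsLib.isConstructible_of_iso' e h
  five {A₁ A₂ A₃ A₄ A₅} f₀ f g k w₀ w₁ w₂ h₀ h₁ h₂ hA₁ hA₂ hA₄ hA₅ := by
    have hC := (EtConsLib.isConstructible_ker_coker_general f₀ hA₁ hA₂).2
    have hK := (EtConsLib.isConstructible_ker_coker_general k hA₄ hA₅).1
    let T : ShortComplex (EtModW.Mod Λ X) := ShortComplex.mk (cokernel.desc f₀ f w₀) (kernel.lift k g w₂)
      (by rw [← cancel_epi (cokernel.π f₀), ← cancel_mono (kernel.ι k)]; simp [w₁])
    haveI : Mono T.f := h₀.mono_cokernelDesc
    haveI : Epi T.g := h₂.epi_kernelLift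
    have hT : T.ShortExact :=
      { exact := by
          rw [ShortComplex.exact_iff_exact_up_to_refinements]
          intro B x hx
          have hx' : x ≫ g = 0 := by
            have := congrArg (fun m => m ≫ kernel.ι k) hx
            simpa [T] using this
          obtain ⟨B', π, hπ, y, hy⟩ := h₁.exact_up_to_refinements x hx'
          exact ⟨B', π, hπ, y ≫ cokernel.π f₀, by simpa [T] using hy⟩ }
    exact EtConsLib.isConstructible_extension_general T hT hC hK

omit [IsNoetherianRing Λ] in
theorem shortExact_constMod {X : Scheme.{u}} {P : ShortComplex (ModuleCat.{u + 1} Λ)} (hP : P.ShortExact) :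
    (P.map (constantSheaf X.smallEtaleTopology (ModuleCat.{u + 1} Λ))).ShortExact := by
  haveI : PreservesFiniteLimits (constantSheaf X.smallEtaleTopology (ModuleCat.{u + 1} Λ)) :=
    inferInstanceAs (PreservesFiniteLimits (Functor.const _ ⋙ presheafToSheaf _ _))
  haveI : PreservesFiniteColimits (constantSheaf X.smallEtaleTopology (ModuleCat.{u + 1} Λ)) :=
    inferInstanceAs (PreservesFiniteColimits (Functor.const _ ⋙ presheafToSheaf _ _))
  exact hP.map_of_exact _

variable {X S : Scheme.{u}} (f : X ⟶ S) [IsProper f] [LocallyOfFinitePresentation f]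

/-- Finite modules killed by a positive integer give constructible higher direct images. -/
theorem isConstructible_phiMod (n : ℕ) : 0 < n → ∀ (M : ModuleCat.{u + 1} Λ), Module.Finite Λ M →
    (∀ m : M, n • m = 0) → ∀ q : ℕ, EtModW.IsConstructible Λ ((phiMod Λ f q).obj M) := by
  induction n using Nat.strong_induction_on with
  | _ n ih =>
    intro hn M hfin hM q
    rcases eq_or_ne n 1 with rfl | h1
    · haveI : Subsingleton M := ⟨fun a b => by rw [← one_nsmul a, hM a, ← hM b, one_nsmul]⟩
      haveI : (EtModW.Rpush Λ f q).Additive := inferInstance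
      haveI : (constantSheaf X.smallEtaleTopology (ModuleCat.{u + 1} Λ)).Additive :=
        haveI : (EtSix.gsecMod Λ X).Additive := ⟨fun {F G a b} => rfl⟩
        (EtSix.constModAdj Λ X).left_adjoint_additive
      exact EtConsLib.isConstructible_of_isZero
        ((phiMod Λ f q).map_isZero (ModuleCat.isZero_of_subsingleton M))
    let ℓ := n.minFac
    haveI hℓ : Fact ℓ.Prime := ⟨Nat.minFac_prime h1⟩
    obtain ⟨m, hm⟩ : ℓ ∣ n := Nat.minFac_dvd n
    have hm0 : 0 < m := Nat.pos_of_ne_zero fun h0 => by simp [h0] at hm; omega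
    have hmn : m < n := by
      rw [hm]
      exact lt_mul_of_one_lt_left hm0 hℓ.out.one_lt
    let N : Submodule Λ M := LinearMap.range ((ℓ : Λ) • (LinearMap.id : M →ₗ[Λ] M))
    haveI : IsNoetherian Λ M := isNoetherian_of_isNoetherianRing_of_finite Λ M
    let P : ShortComplex (ModuleCat.{u + 1} Λ) :=
      ShortComplex.mk (ModuleCat.ofHom N.subtype) (ModuleCat.ofHom N.mkQ)
        (ModuleCat.hom_ext (LinearMap.ext fun x => (Submodule.Quotient.mk_eq_zero N).2 x.2))
    have hP : P.ShortExact :=
      { exact := (ShortComplex.ShortExact.moduleCat_exact_iff_function_exact P).2 (LinearMap.exact_subtype_mkQ N)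
        mono_f := (ModuleCat.mono_iff_injective _).2 N.injective_subtype
        epi_g := (ModuleCat.epi_iff_surjective _).2 N.mkQ_surjective }
    have hK : ∀ x : N, m • x = 0 := by
      rintro ⟨x, y, rfl⟩
      refine Subtype.ext ?_
      show m • ((ℓ : Λ) • y) = 0
      rw [Nat.cast_smul_eq_nsmul, smul_smul, mul_comm, ← hm]
      exact hM y
    have hQ : ∀ x : M ⧸ N, (ℓ : ℤ) • x = 0 := by
      intro x
      obtain ⟨y, rfl⟩ := N.mkQ_surjective x
      rw [← map_zsmul]
      refine (Submodule.Quotient.mk_eq_zero N).2 ⟨y, ?_⟩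
      show (ℓ : Λ) • y = (ℓ : ℤ) • y
      rw [Nat.cast_smul_eq_nsmul, natCast_zsmul]
    have h₁ : ∀ i, EtModW.IsConstructible Λ ((phiMod Λ f i).obj P.X₁) := fun i =>
      ih m hmn hm0 _ (inferInstanceAs (Module.Finite Λ N)) hK i
    have h₃ : ∀ i, EtModW.IsConstructible Λ ((phiMod Λ f i).obj P.X₃) := fun i => by
      haveI : Module.Finite Λ P.X₃ := inferInstanceAs (Module.Finite Λ (M ⧸ N))
      exact isConstructible_phiMod_of_prime f i P.X₃ hQ
        (FinPushLib.isConstructible_Rpush_const SmoothPushLib.smoothCurveInput FinPushLib.modelInput f (ZMod ℓ) i)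
    obtain ⟨Δ⟩ := RDerLib.nonempty_derivedLES (EtModW.push Λ f)
    have hS := shortExact_constMod (X := X) hP
    let T := P.map (constantSheaf X.smallEtaleTopology (ModuleCat.{u + 1} Λ))
    rcases q with _ | q
    · refine (fiveClass_mod S).five (0 : (EtModW.Rpush Λ f 0).obj T.X₁ ⟶ (EtModW.Rpush Λ f 0).obj T.X₁)
        ((EtModW.Rpush Λ f 0).map T.f) ((EtModW.Rpush Λ f 0).map T.g) (Δ.δ T hS 0 1 rfl) zero_comp
        (by rw [← Functor.map_comp, T.zero, Functor.map_zero]) (Δ.comp_δ T hS 0 1 rfl) ?_ (Δ.exact₂ T hS 0)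
        (Δ.exact₃ T hS 0 1 rfl) (h₁ 0) (h₁ 0) (h₃ 0) (h₁ 1)
      refine (ShortComplex.exact_iff_mono _ rfl).2 ?_
      haveI : PreservesFiniteLimits (EtModW.push Λ f) := inferInstance
      haveI : Mono T.f := hS.mono_f
      haveI : Mono ((EtModW.push Λ f).map T.f) := (EtModW.push Λ f).map_mono T.f
      exact ((MorphismProperty.monomorphisms _).arrow_mk_iso_iff
        (Arrow.isoMk ((asIso (EtModW.push Λ f).toRightDerivedZero).app T.X₁)
          ((asIso (EtModW.push Λ f).toRightDerivedZero).app T.X₂)
          ((EtModW.push Λ f).toRightDerivedZero.naturality T.f).symm)).1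
        (inferInstanceAs (Mono ((EtModW.push Λ f).map T.f)))
    · exact (fiveClass_mod S).five (Δ.δ T hS q (q + 1) rfl) ((EtModW.Rpush Λ f (q + 1)).map T.f)
        ((EtModW.Rpush Λ f (q + 1)).map T.g) (Δ.δ T hS (q + 1) (q + 1 + 1) rfl) (Δ.δ_comp T hS q (q + 1) rfl)
        (by rw [← Functor.map_comp, T.zero, Functor.map_zero]) (Δ.comp_δ T hS (q + 1) (q + 1 + 1) rfl)
        (Δ.exact₁ T hS q (q + 1) rfl) (Δ.exact₂ T hS (q + 1)) (Δ.exact₃ T hS (q + 1) (q + 1 + 1) rfl)
        (h₃ q) (h₁ (q + 1)) (h₃ (q + 1)) (h₁ (q + 1 + 1))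

end Groth.Agent.EtModRpushLib

end
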