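import Groth.Agent.EtModRpushLib.Const
import Groth.Agent.StrictLocLib.Derived
import Groth.Agent.StrictLocLib.ProperStalk
import Groth.Agent.RpushSumLib.Gen
import Groth.Agent.CohColim.EtQC

/-!
Stalks of higher direct images of constant sheaves killed by a prime.
-/

set_option autoImplicit false
set_option linter.style.haveILetI false
set_option linter.unusedSectionVars false
set_option backward.isDefEq.respectTransparency false
set_option backward.isDefEq.respectTransparency.types false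
set_option maxHeartbeats 1000000
set_option synthInstance.maxHeartbeats 200000

universe u

open CategoryTheory CategoryTheory.Limits AlgebraicGeometry Opposite IsLocalRing

noncomputable section

namespace Groth.Agent.EtModRpushLib

variable {Λ : Type (u + 1)} [CommRing Λ] {X S : Scheme.{u}} (f : X ⟶ S) (q : ℕ)

instance additive_stalk {Ω : Type u} [Field Ω] [IsSepClosed Ω] (ξ : Spec (CommRingCat.of Ω) ⟶ S) :
    (EtCoh.stalk ξ).Additive := Functor.additive_of_preserves_binary_products _

section Coproduct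

variable [QuasiCompact f] [QuasiSeparated f]

/-- At a strict localization the stalk of `R^q f_*` of constant sheaves commutes with direct sums. -/
theorem preservesCoproducts_phiAb_stalk {R : Type u} [CommRing R] [HenselianLocalRing R]
    [IsSepClosed (ResidueField R)] (h : Spec (CommRingCat.of R) ⟶ S) (N : StrictLocLib.NbhdSys h)
    (ι : Type (u + 1)) :
    PreservesColimitsOfShape (Discrete ι) (phiAb f q ⋙ EtCoh.stalk (StrictLocLib.pt h)) := by
  obtain ⟨e⟩ := StrictLocLib.nonempty_stalk_Rpush_natIso h f N q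
  haveI : CompactSpace ↥(pullback f h) := QuasiCompact.compactSpace_of_compactSpace (pullback.snd f h)
  haveI : QuasiSeparatedSpace ↥(pullback f h) := quasiSeparatedSpace_of_quasiSeparated (pullback.snd f h)
  haveI : PreservesColimitsOfShape (Discrete ι) (constantSheaf X.smallEtaleTopology AddCommGrpCat.{u + 1}) :=
    (EtCore.constAdj X).leftAdjoint_preservesColimits.preservesColimitsOfShape
  haveI : PreservesColimitsOfShape (Discrete ι) (EtCoh.pull (StrictLocLib.proj h f)) :=
    (EtCoh.pullPushAdj _).leftAdjoint_preservesColimits.preservesColimitsOfShape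
  haveI := CohColim.preserves_HF (X := pullback f h) q (Finset (Discrete ι))
  haveI := RpushSumLib.preservesColimitsOfShape_discrete ι (EtCoh.HF (pullback f h) q)
  exact preservesColimitsOfShape_of_natIso
    ((Functor.isoWhiskerLeft (constantSheaf X.smallEtaleTopology AddCommGrpCat.{u + 1}) e).symm ≪≫
      (Functor.associator _ _ _).symm)

end Coproduct

theorem stalkAbove_natural {R : Type u} [CommRing R] [HenselianLocalRing R] [IsSepClosed (ResidueField R)]
    (h : Spec (CommRingCat.of R) ⟶ S) {Ω : Type u} [Field Ω] [IsSepClosed Ω] (ι : ResidueField R →+* Ω)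
    {P Q : EtCoh.Ab S} (a : P ⟶ Q) (z : (EtCoh.stalk (StrictLocLib.pt h)).obj P) :
    StrictLocLib.stalkAbove h ι Q.obj ((EtCoh.stalk (StrictLocLib.pt h)).map a z) =
      (EtCoh.stalk (StrictLocLib.geomAbove h ι)).map a (StrictLocLib.stalkAbove h ι P.obj z) := by
  obtain ⟨U, l, x, rfl⟩ := (Scheme.pointSmallEtale (StrictLocLib.pt h)).toPresheafFiber_jointly_surjective z
  refine Eq.trans ?_ (congrArg ((EtCoh.stalk (StrictLocLib.geomAbove h ι)).map a)
    (StrictLocLib.stalkAbove_germ h ι P.obj U l x)).symm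
  refine (congrArg (StrictLocLib.stalkAbove h ι Q.obj)
    ((Scheme.pointSmallEtale (StrictLocLib.pt h)).toPresheafFiber_naturality_apply a.hom U l x)).trans ?_
  exact (StrictLocLib.stalkAbove_germ h ι Q.obj U l _).trans
    ((Scheme.pointSmallEtale (StrictLocLib.geomAbove h ι)).toPresheafFiber_naturality_apply a.hom U _ x).symm

/-- A group killed by a prime is a direct sum of copies of `ℤ/ℓ`. -/
theorem exists_repr {ℓ : ℕ} [Fact ℓ.Prime] (V : Type (u + 1)) [AddCommGroup V] (hV : ∀ v : V, (ℓ : ℤ) • v = 0) :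
    ∃ (κ : Type (u + 1)), Nonempty (V ≃+ (κ →₀ ZMod ℓ)) := by
  letI : Module (ZMod ℓ) V := AddCommGroup.zmodModule fun x => by rw [← natCast_zsmul]; exact hV x
  exact ⟨_, ⟨(Module.Basis.ofVectorSpace (ZMod ℓ) V).repr.toAddEquiv⟩⟩

section Prime

variable {ℓ : ℕ} [Fact ℓ.Prime] (M : ModuleCat.{u + 1} Λ) (hM : ∀ m : M, (ℓ : ℤ) • m = 0)

/-- The sum of the components. -/
def sumNu {Ω : Type u} [Field Ω] [IsSepClosed Ω] (ξ : Spec (CommRingCat.of Ω) ⟶ S) {r : ℕ}
    (e : Fin r → (EtCoh.stalk ξ).obj ((phiAb f q).obj (Zl ℓ))) :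
    (Fin r → M) →+ (EtCoh.stalk ξ).obj ((EtModD.forgetToAb Λ S).obj ((phiMod Λ f q).obj M)) :=
  ∑ j : Fin r, (AddMonoidHom.mk' (fun m : M => (EtCoh.stalk ξ).map (nu f q M hM m) (e j)) fun m m' => by
    rw [nu_add, Functor.map_add]; rfl).comp (Pi.evalAddMonoidHom (fun _ => (M : Type (u + 1))) j)

theorem sumNu_apply {Ω : Type u} [Field Ω] [IsSepClosed Ω] (ξ : Spec (CommRingCat.of Ω) ⟶ S) {r : ℕ}
    (e : Fin r → (EtCoh.stalk ξ).obj ((phiAb f q).obj (Zl ℓ))) (m : Fin r → M) :
    sumNu f q M hM ξ e m = ∑ j, (EtCoh.stalk ξ).map (nu f q M hM (m j)) (e j) := by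
  simp [sumNu]

/-- The coordinates of a module killed by `ℓ` split it into copies of `ℤ/ℓ`. -/
theorem exists_basis : ∃ (ι : Type (u + 1)) (b : ι → M) (c : ι → (M →+ ZMod ℓ)),
    (∀ m, (∀ i, c i m = 0) → m = 0) ∧
      Nonempty (IsColimit (Cofan.mk ((forget₂ (ModuleCat.{u + 1} Λ) AddCommGrpCat.{u + 1}).obj M)
        fun i => coefHom M hM (b i))) := by
  obtain ⟨κ, ⟨B⟩⟩ := exists_repr (M : Type (u + 1)) hM
  let bb : κ → M := fun i => B.symm (Finsupp.single i 1)
  refine ⟨κ, bb, fun i => (Finsupp.applyAddHom i).comp B.toAddMonoidHom, fun m hm => ?_, ⟨?_⟩⟩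
  · exact (map_eq_zero_iff B B.injective).1 (Finsupp.ext hm)
  · let F : ∀ s : Cofan (fun _ : κ => Zl.{u} ℓ), (κ →₀ ZMod ℓ) →+ s.pt := fun s =>
      Finsupp.liftAddHom fun i => (s.inj i).hom.comp AddEquiv.ulift.symm.toAddMonoidHom
    have hrepr : ∀ i (k : ℤ), B (coefHom M hM (bb i) ⟨(k : ZMod ℓ)⟩) = Finsupp.single i (k : ZMod ℓ) := by
      intro i k
      rw [coefHom_apply, map_zsmul, AddEquiv.apply_symm_apply, Finsupp.smul_single, zsmul_one]
    refine Cofan.IsColimit.mk _ (fun s => AddCommGrpCat.ofHom ((F s).comp B.toAddMonoidHom))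
      (fun s i => ?_) (fun s g hg => ?_)
    · refine zlHom_ext ?_
      show F s (B (coefHom M hM (bb i) ⟨1⟩)) = s.inj i ⟨1⟩
      rw [← Int.cast_one, hrepr]
      exact Finsupp.liftAddHom_apply_single _ _ _
    · refine AddCommGrpCat.hom_ext ?_
      have hgF : g.hom.comp B.symm.toAddMonoidHom = F s := by
        refine Finsupp.addHom_ext fun i z => ?_
        obtain ⟨k, rfl⟩ := ZMod.intCast_surjective z
        refine Eq.trans ?_ (Finsupp.liftAddHom_apply_single _ _ _).symm
        show g (B.symm (Finsupp.single i (k : ZMod ℓ))) = s.inj i ⟨(k : ZMod ℓ)⟩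
        rw [← hrepr, AddEquiv.symm_apply_apply, ← hg i]
        rfl
      refine AddMonoidHom.ext fun m => ?_
      refine Eq.trans ?_ (DFunLike.congr_fun hgF (B m))
      exact congrArg g (B.symm_apply_apply m).symm

variable [QuasiCompact f] [QuasiSeparated f]

/-- The components generate every stalk. -/
theorem closure_range_nu {Ω : Type u} [Field Ω] [IsSepClosed Ω] (ξ : Spec (CommRingCat.of Ω) ⟶ S) :
    AddSubgroup.closure (⋃ m : M, Set.range ((EtCoh.stalk ξ).map (nu f q M hM m))) = ⊤ := by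
  haveI : IsLocalRing (CommRingCat.of Ω) := inferInstanceAs (IsLocalRing Ω)
  obtain ⟨a, ha, haξ⟩ := StrictLocLib.exists_stalkHom ξ _ rfl
  let s := ξ (closedPoint (CommRingCat.of Ω))
  haveI := ha
  obtain ⟨R, _, _, _, _, hR⟩ := Henselization.exists_strictHenselization (S.presheaf.stalk s)
  haveI := hR
  haveI := Hensel.IsStrictHenselization.henselian (R := S.presheaf.stalk s) (S := R)
  have hsep := Hensel.IsStrictHenselization.isSepClosure (R := S.presheaf.stalk s) (S := R)
  haveI : IsSepClosed (ResidueField R) := hsep.sep_closed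
  let α : ResidueField (S.presheaf.stalk s) →+* Ω := ResidueField.lift a.hom
  letI : Algebra (ResidueField (S.presheaf.stalk s)) Ω := α.toAlgebra
  haveI : Algebra.IsSeparable (ResidueField (S.presheaf.stalk s)) (ResidueField R) := hsep.separable
  let ι : ResidueField R →ₐ[ResidueField (S.presheaf.stalk s)] Ω := IsSepClosed.lift
  let h := Hens2.specOf S s R
  have e : StrictLocLib.geomAbove h ι.toRingHom = ξ := by
    refine Eq.trans ?_ haξ
    show Spec.map _ ≫ Spec.map _ ≫ Spec.map _ ≫ S.fromSpecStalk s = Spec.map a ≫ S.fromSpecStalk s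
    rw [← Category.assoc, ← Category.assoc, ← Spec.map_comp, ← Spec.map_comp]
    refine congrArg (fun m => Spec.map m ≫ S.fromSpecStalk s) (CommRingCat.hom_ext (RingHom.ext fun x => ?_))
    exact ι.commutes (residue (S.presheaf.stalk s) x)
  obtain ⟨N⟩ := StrictLocLib.exists_nbhdSys h (StrictLocLib.bijective_germVal S s R)
  suffices key : ∀ ξ' : Spec (CommRingCat.of Ω) ⟶ S, StrictLocLib.geomAbove h ι.toRingHom = ξ' →
      AddSubgroup.closure (⋃ m : M, Set.range ((EtCoh.stalk ξ').map (nu f q M hM m))) = ⊤ from key ξ e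
  rintro _ rfl
  rw [eq_top_iff]
  intro w _
  obtain ⟨z, rfl⟩ := StrictLocLib.stalkAbove_surjective h ι.toRingHom
    ((EtModD.forgetToAb Λ S).obj ((phiMod Λ f q).obj M)).obj w
  let P := EtCoh.stalk (StrictLocLib.pt h)
  let H₀ : AddSubgroup (P.obj ((EtModD.forgetToAb Λ S).obj ((phiMod Λ f q).obj M))) :=
    AddSubgroup.closure (⋃ m : M, Set.range (P.map (nu f q M hM m)))
  have htop : H₀ = ⊤ := by
    obtain ⟨κ, b, c, -, ⟨hc⟩⟩ := exists_basis M hM
    haveI := preservesCoproducts_phiAb_stalk f q h N κ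
    have hcol := isColimitOfPreserves (phiAb f q ⋙ P) hc
    rw [eq_top_iff]
    intro y _
    let π : P.obj ((EtModD.forgetToAb Λ S).obj ((phiMod Λ f q).obj M)) ⟶ AddCommGrpCat.of _ :=
      AddCommGrpCat.ofHom (QuotientAddGroup.mk' H₀)
    have hπ : P.map ((phiIso Λ f q).hom.app M) ≫ π = 0 := hcol.hom_ext fun i => by
      refine Eq.trans ?_ comp_zero.symm
      refine AddCommGrpCat.hom_ext (AddMonoidHom.ext fun v => ?_)
      refine (QuotientAddGroup.eq_zero_iff _).2 (AddSubgroup.subset_closure (Set.mem_iUnion.2 ⟨b i.as, v, ?_⟩))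
      show P.map ((phiAb f q).map (coefHom M hM (b i.as)) ≫ _) v = _
      rw [Functor.map_comp]
      rfl
    haveI : IsIso ((phiIso Λ f q).hom.app M) := inferInstance
    have hπ0 : π = 0 := by rw [← cancel_epi (P.map ((phiIso Λ f q).hom.app M)), hπ, comp_zero]
    exact (QuotientAddGroup.eq_zero_iff _).1 (DFunLike.congr_fun (congrArg (fun g => g.hom) hπ0) y)
  have hz : z ∈ H₀ := htop ▸ AddSubgroup.mem_top z
  refine AddSubgroup.closure_induction (p := fun z _ => StrictLocLib.stalkAbove h ι.toRingHom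
      ((EtModD.forgetToAb Λ S).obj ((phiMod Λ f q).obj M)).obj z ∈ AddSubgroup.closure (⋃ m : M,
        Set.range ((EtCoh.stalk (StrictLocLib.geomAbove h ι.toRingHom)).map (nu f q M hM m))))
    (fun y hy => ?_) ?_ (fun x y _ _ hx hy => ?_) (fun x _ hx => ?_) hz
  · obtain ⟨m, v, rfl⟩ := Set.mem_iUnion.1 hy
    exact AddSubgroup.subset_closure (Set.mem_iUnion.2 ⟨m, _, (stalkAbove_natural h ι.toRingHom _ v).symm⟩)
  · rw [map_zero]; exact zero_mem _
  · rw [map_add]; exact add_mem hx hy
  · rw [map_neg]; exact neg_mem hx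

/-- A basis of the stalk with coefficients `ℤ/ℓ` gives coordinates on the stalk with coefficients `M`. -/
theorem bijective_sumNu {Ω : Type u} [Field Ω] [IsSepClosed Ω] (ξ : Spec (CommRingCat.of Ω) ⟶ S) {r : ℕ}
    (e : Fin r → (EtCoh.stalk ξ).obj ((phiAb f q).obj (Zl ℓ)))
    (hgen : ∀ v, ∃ c : Fin r → ℤ, v = ∑ j, c j • e j)
    (hind : ∀ c : Fin r → ℤ, ∑ j, c j • e j = 0 → ∀ j, (ℓ : ℤ) ∣ c j) :
    Function.Bijective (sumNu f q M hM ξ e) := by
  let P := EtCoh.stalk ξ
  refine ⟨(injective_iff_map_eq_zero _).2 fun m hm => funext fun j => ?_, fun w => ?_⟩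
  · obtain ⟨κ, b, c, hc, -⟩ := exists_basis M hM
    refine hc _ fun i => ?_
    let g : (forget₂ (ModuleCat.{u + 1} Λ) AddCommGrpCat.{u + 1}).obj M ⟶ Zl ℓ :=
      AddCommGrpCat.ofHom (AddEquiv.ulift.symm.toAddMonoidHom.comp (c i))
    let k : Fin r → ℤ := fun j => ((c i (m j)).val : ℤ)
    have hk : ∀ j, coefHom M hM (m j) ≫ g = k j • 𝟙 _ := fun j => zlHom_ext (by
      change g (coefHom M hM (m j) ⟨1⟩) = k j • (⟨1⟩ : Zl ℓ)
      rw [coefHom_one]
      refine ULift.ext _ _ ?_
      change c i (m j) = k j • (1 : ZMod ℓ)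
      simp [k])
    have h0 : ∑ j, k j • e j = 0 := by
      refine Eq.trans ?_ ((congrArg (P.map ((phiIso Λ f q).inv.app M ≫ (phiAb f q).map g)) hm).trans (map_zero _))
      rw [sumNu_apply, map_sum]
      refine Finset.sum_congr rfl fun j _ => ?_
      refine Eq.trans ?_ (congrArg (fun a => (ConcreteCategory.hom a) (e j)) (P.map_comp (nu f q M hM (m j))
        ((phiIso Λ f q).inv.app M ≫ (phiAb f q).map g)))
      rw [nu, Category.assoc, Iso.hom_inv_id_app_assoc, ← Functor.map_comp, hk, Functor.map_zsmul,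
        CategoryTheory.Functor.map_id, Functor.map_zsmul, CategoryTheory.Functor.map_id]
      rfl
    have hd := (ZMod.intCast_zmod_eq_zero_iff_dvd (k j) ℓ).2 (hind k h0 j)
    simpa [k] using hd
  · suffices AddSubgroup.closure (⋃ m : M, Set.range (P.map (nu f q M hM m))) ≤ (sumNu f q M hM ξ e).range from
      this (closure_range_nu f q M hM ξ ▸ AddSubgroup.mem_top w)
    refine (AddSubgroup.closure_le _).2 ?_
    intro y hy
    obtain ⟨m, v, rfl⟩ := Set.mem_iUnion.1 hy
    obtain ⟨c, rfl⟩ := hgen v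
    refine ⟨fun j => c j • m, ?_⟩
    rw [sumNu_apply, map_sum]
    refine Finset.sum_congr rfl fun j _ => ?_
    have h1 : nu f q M hM (c j • m) = c j • nu f q M hM m :=
      map_zsmul (AddMonoidHom.mk' (nu f q M hM) (nu_add f q M hM)) (c j) m
    rw [h1, Functor.map_zsmul, map_zsmul]
    rfl

end Prime

end Groth.Agent.EtModRpushLib

end
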