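import Groth.Agent.EtModRpushLib.Point
import Groth.Agent.FLCLib.ModCriterion
import Groth.Agent.FLCLib.Basic
import Groth.Agent.S6646

/-!
Constructibility of higher direct images of constant sheaves killed by a prime.
-/

set_option autoImplicit false
set_option linter.style.haveILetI false
set_option linter.unusedSectionVars false
set_option backward.isDefEq.respectTransparency false
set_option backward.isDefEq.respectTransparency.types false
set_option maxHeartbeats 1000000
set_option synthInstance.maxHeartbeats 200000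

universe u

open CategoryTheory CategoryTheory.Limits AlgebraicGeometry Opposite
open Groth.Agent.EtPtsLib Groth.Agent.FLCLib

noncomputable section

namespace Groth.Agent.EtModRpushLib

variable {Λ : Type (u + 1)} [CommRing Λ] {X S T : Scheme.{u}}

section Beta

variable {Ω : Type u} [Field Ω] [IsSepClosed Ω] (ξ : Spec (CommRingCat.of Ω) ⟶ S)

/-- Stalks of the underlying abelian sheaf. -/
def forgetStalk (F : EtModW.Mod Λ S) : (EtCoh.stalk ξ).obj ((EtModD.forgetToAb Λ S).obj F) ⟶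
    (forget₂ (ModuleCat.{u + 1} Λ) AddCommGrpCat.{u + 1}).obj ((EtModW.stalk Λ ξ).obj F) :=
  (Scheme.pointSmallEtale ξ).presheafFiberDesc (P := ((EtModD.forgetToAb Λ S).obj F).obj)
    (fun U l => (forget₂ (ModuleCat.{u + 1} Λ) AddCommGrpCat.{u + 1}).map
      ((Scheme.pointSmallEtale ξ).toPresheafFiber U l F.obj))
    (fun U V i l => ((forget₂ (ModuleCat.{u + 1} Λ) AddCommGrpCat.{u + 1}).map_comp _ _).symm.trans
      (congrArg (forget₂ (ModuleCat.{u + 1} Λ) AddCommGrpCat.{u + 1}).map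
        ((Scheme.pointSmallEtale ξ).toPresheafFiber_w i l F.obj)))

theorem forgetStalk_germ (F : EtModW.Mod Λ S) (U : S.Etale) (l : (Scheme.pointSmallEtale ξ).fiber.obj U)
    (s : EtModW.sect Λ F U) :
    forgetStalk ξ F (germ ξ ((EtModD.forgetToAb Λ S).obj F) l s) = Mdl.germM ξ F l s :=
  (ConcreteCategory.comp_apply _ _ _).symm.trans
    (congrArg (fun m : ((EtModD.forgetToAb Λ S).obj F).obj.obj (op U) ⟶
        (forget₂ (ModuleCat.{u + 1} Λ) AddCommGrpCat.{u + 1}).obj ((EtModW.stalk Λ ξ).obj F) =>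
        (ConcreteCategory.hom m) s)
      ((Scheme.pointSmallEtale ξ).toPresheafFiber_presheafFiberDesc (P := ((EtModD.forgetToAb Λ S).obj F).obj)
        (fun U l => (forget₂ (ModuleCat.{u + 1} Λ) AddCommGrpCat.{u + 1}).map
          ((Scheme.pointSmallEtale ξ).toPresheafFiber U l F.obj))
        (fun U V i l => ((forget₂ (ModuleCat.{u + 1} Λ) AddCommGrpCat.{u + 1}).map_comp _ _).symm.trans
          (congrArg (forget₂ (ModuleCat.{u + 1} Λ) AddCommGrpCat.{u + 1}).map
            ((Scheme.pointSmallEtale ξ).toPresheafFiber_w i l F.obj))) U l))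

theorem bijective_forgetStalk (F : EtModW.Mod Λ S) : Function.Bijective (forgetStalk ξ F) := by
  refine ⟨(injective_iff_map_eq_zero _).2 fun z hz => ?_, fun y => ?_⟩
  · obtain ⟨U, l, s, rfl⟩ := (Scheme.pointSmallEtale ξ).toPresheafFiber_jointly_surjective z
    have h0 : Mdl.germM ξ F l s = Mdl.germM ξ F l 0 :=
      ((forgetStalk_germ ξ F U l s).symm.trans hz).trans (map_zero _).symm
    obtain ⟨W, i, y, hy, hi⟩ := ((Scheme.pointSmallEtale ξ).toPresheafFiber_eq_iff' U l _ _).1 h0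
    refine Eq.trans (((Scheme.pointSmallEtale ξ).toPresheafFiber_eq_iff' U l s
      (0 : ((EtModD.forgetToAb Λ S).obj F).obj.obj (op U))).2 ⟨W, i, y, hy, hi⟩) ?_
    exact map_zero _
  · obtain ⟨U, l, s, rfl⟩ := (Scheme.pointSmallEtale ξ).toPresheafFiber_jointly_surjective (P := F.obj) y
    exact ⟨germ ξ _ l s, forgetStalk_germ ξ F U l s⟩

end Beta

variable (f : X ⟶ S) (q : ℕ) {ℓ : ℕ} (g : T ⟶ S) (M : ModuleCat.{u + 1} Λ) (hM : ∀ m : M, (ℓ : ℤ) • m = 0)

/-- Inverse image and direct image of sheaves of modules are adjoint. -/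
abbrev adjW : EtModW.pull Λ g ⊣ EtModW.push Λ g :=
  (EtCoh.bc g).sheafAdjunctionContinuous (ModuleCat.{u + 1} Λ) S.smallEtaleTopology T.smallEtaleTopology

/-- The components on an inverse image. -/
def nuT (m : M) : (EtCoh.pull g).obj ((phiAb f q).obj (Zl ℓ)) ⟶
    (EtModD.forgetToAb Λ T).obj ((EtModW.pull Λ g).obj ((phiMod Λ f q).obj M)) :=
  ((EtCoh.pullPushAdj g).homEquiv _ _).symm
    (nu f q M hM m ≫ (EtModD.forgetToAb Λ S).map ((adjW g).unit.app ((phiMod Λ f q).obj M)))

theorem unit_nuT (m : M) :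
    (EtCoh.pullPushAdj g).unit.app ((phiAb f q).obj (Zl ℓ)) ≫ (EtCoh.push g).map (nuT f q g M hM m) =
      nu f q M hM m ≫ (EtModD.forgetToAb Λ S).map ((adjW g).unit.app ((phiMod Λ f q).obj M)) :=
  ((EtCoh.pullPushAdj g).homEquiv_unit _ _ _).symm.trans (Equiv.apply_symm_apply _ _)

theorem nuT_add (m m' : M) : nuT f q g M hM (m + m') = nuT f q g M hM m + nuT f q g M hM m' := by
  refine ((EtCoh.pullPushAdj g).homEquiv _ _).injective ?_
  rw [Adjunction.homEquiv_unit, Adjunction.homEquiv_unit, Functor.map_add, Preadditive.comp_add, unit_nuT,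
    unit_nuT, unit_nuT, nu_add, Preadditive.add_comp]

theorem nuT_smul (l : Λ) (m : M) :
    nuT f q g M hM (l • m) = nuT f q g M hM m ≫ (EtModD.forgetToAb Λ T).map ((scal l).app _) := by
  refine ((EtCoh.pullPushAdj g).homEquiv _ _).injective ?_
  rw [Adjunction.homEquiv_unit, Adjunction.homEquiv_unit, Functor.map_comp, unit_nuT, ← Category.assoc, unit_nuT,
    nu_smul, Category.assoc, Category.assoc, ← Functor.map_comp]
  refine congrArg (nu f q M hM m ≫ ·) ?_
  exact (congrArg (EtModD.forgetToAb Λ S).map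
    ((scal l).naturality ((adjW g).unit.app ((phiMod Λ f q).obj M))).symm).trans ((EtModD.forgetToAb Λ S).map_comp _ _)

theorem nuT_unitStalk {Ω : Type u} [Field Ω] [IsSepClosed Ω] (ζ : Spec (CommRingCat.of Ω) ⟶ T) (m : M)
    (x : (EtCoh.stalk (ζ ≫ g)).obj ((phiAb f q).obj (Zl ℓ))) :
    forgetStalk ζ _ ((EtCoh.stalk ζ).map (nuT f q g M hM m) (unitStalk g ζ ((phiAb f q).obj (Zl ℓ)) x)) =
      unitStalk g ζ ((phiMod Λ f q).obj M)
        (forgetStalk (ζ ≫ g) _ ((EtCoh.stalk (ζ ≫ g)).map (nu f q M hM m) x)) := by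
  obtain ⟨U, l, s, rfl⟩ := (Scheme.pointSmallEtale (ζ ≫ g)).toPresheafFiber_jointly_surjective x
  have e1 : unitStalk g ζ ((phiAb f q).obj (Zl ℓ)) (germ (ζ ≫ g) _ l s) =
      germ ζ _ (liftBc g ζ U l) (((EtCoh.pullPushAdj g).unit.app _).hom.app (op U) s) :=
    ConcreteCategory.congr_hom (toPresheafFiber_unitStalk g ζ ((phiAb f q).obj (Zl ℓ)) U l) s
  have e2 : unitStalk g ζ ((phiMod Λ f q).obj M)
      (Mdl.germM (ζ ≫ g) _ l ((nu f q M hM m).hom.app (op U) s)) =
      Mdl.germM ζ _ (liftBc g ζ U l) (((adjW g).unit.app _).hom.app (op U) ((nu f q M hM m).hom.app (op U) s)) :=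
    ConcreteCategory.congr_hom (toPresheafFiber_unitStalk g ζ ((phiMod Λ f q).obj M) U l) _
  refine (congrArg (fun z => forgetStalk ζ _ ((EtCoh.stalk ζ).map (nuT f q g M hM m) z)) e1).trans ?_
  refine (congrArg (forgetStalk ζ _)
    ((Scheme.pointSmallEtale ζ).toPresheafFiber_naturality_apply (nuT f q g M hM m).hom _ _ _)).trans ?_
  refine (forgetStalk_germ ζ _ _ _ _).trans ?_
  refine Eq.trans ?_ (congrArg (fun z => unitStalk g ζ ((phiMod Λ f q).obj M) z) ((congrArg (forgetStalk (ζ ≫ g) _)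
    ((Scheme.pointSmallEtale (ζ ≫ g)).toPresheafFiber_naturality_apply (nu f q M hM m).hom U l s)).trans
    (forgetStalk_germ (ζ ≫ g) _ _ _ _))).symm
  refine Eq.trans ?_ e2.symm
  exact congrArg (Mdl.germM ζ _ (liftBc g ζ U l))
    (congrArg (fun a : (phiAb f q).obj (Zl ℓ) ⟶ (EtCoh.push g).obj
      ((EtModD.forgetToAb Λ T).obj ((EtModW.pull Λ g).obj ((phiMod Λ f q).obj M))) => a.hom.app (op U) s)
      (unit_nuT f q g M hM m))

variable [Fact ℓ.Prime]

/-- Finite groups killed by a prime have bases. -/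
theorem exists_coords (A : Type (u + 1)) [AddCommGroup A] [Finite A] (hA : ∀ a : A, (ℓ : ℤ) • a = 0) :
    ∃ (r : ℕ) (a : Fin r → A), (∀ v, ∃ c : Fin r → ℤ, v = ∑ j, c j • a j) ∧
      ∀ c : Fin r → ℤ, ∑ j, c j • a j = 0 → ∀ j, (ℓ : ℤ) ∣ c j := by
  obtain ⟨κ, ⟨B⟩⟩ := exists_repr A hA
  haveI : Nontrivial (ZMod ℓ) := inferInstance
  haveI : Finite κ := Finite.of_injective (fun i => B.symm (Finsupp.single i 1))
    (B.symm.injective.comp (Finsupp.single_left_injective one_ne_zero))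
  let ε := Finite.equivFin κ
  let B' : A ≃+ (Fin (Nat.card κ) →₀ ZMod ℓ) := B.trans (Finsupp.domCongr ε)
  have hs : ∀ c : Fin (Nat.card κ) → ℤ,
      B' (∑ j, c j • B'.symm (Finsupp.single j 1)) = ∑ j, Finsupp.single j (c j : ZMod ℓ) := fun c => by
    rw [map_sum]
    refine Finset.sum_congr rfl fun j _ => ?_
    rw [map_zsmul, AddEquiv.apply_symm_apply, Finsupp.smul_single, zsmul_one]
  refine ⟨_, fun j => B'.symm (Finsupp.single j 1), fun v => ⟨fun j => ((B' v j).val : ℤ), B'.injective ?_⟩,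
    fun c hc j => ?_⟩
  · rw [hs]
    simp
  · rw [← ZMod.intCast_zmod_eq_zero_iff_dvd]
    have h := congrArg (fun x => B' x j) hc
    simpa [hs, Finsupp.finset_sum_apply, Finsupp.single_apply] using h

/-- The linear map of sections given by a basis. -/
def thetaT (U : T.Etale) {r : ℕ} (e : Fin r → EtCoh.sect ((EtCoh.pull g).obj ((phiAb f q).obj (Zl ℓ))) U) :
    (Fin r → M) →ₗ[Λ] EtModW.sect Λ ((EtModW.pull Λ g).obj ((phiMod Λ f q).obj M)) U :=
  ∑ j : Fin r,
    ({ toFun := fun m : M => (nuT f q g M hM m).hom.app (op U) (e j)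
       map_add' := fun m m' => by rw [nuT_add]; rfl
       map_smul' := fun l m => by rw [nuT_smul]; rfl } :
      M →ₗ[Λ] EtModW.sect Λ ((EtModW.pull Λ g).obj ((phiMod Λ f q).obj M)) U).comp
      (LinearMap.proj j)

theorem thetaT_apply (U : T.Etale) {r : ℕ}
    (e : Fin r → EtCoh.sect ((EtCoh.pull g).obj ((phiAb f q).obj (Zl ℓ))) U) (m : Fin r → M) :
    thetaT f q g M hM U e m = ∑ j, (nuT f q g M hM (m j)).hom.app (op U) (e j) := by
  simp [thetaT]

variable [QuasiCompact f] [QuasiSeparated f] [Module.Finite Λ M]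

include hM in
/-- On a stratum where the basic sheaf is finite locally constant, the sheaf of modules is of finite type. -/
theorem isFTLocConst_pull_phiMod
    (hV : EtCoh.IsFiniteLocallyConstant ((EtCoh.pull g).obj ((phiAb f q).obj (Zl ℓ)))) :
    EtModW.IsFTLocConst Λ ((EtModW.pull Λ g).obj ((phiMod Λ f q).obj M)) := by
  refine S6646.isFTLocConst_of_constNear fun x => ?_
  obtain ⟨U, A, θ, hx, hA, hθ⟩ := (finiteLocallyConstant_iff _).1 hV x
  obtain ⟨l₀, -⟩ := Scheme.pointSmallEtaleFiberObjToPreimage_surjective (geomPt x) (geomPt_default _) U ⟨hx.choose, hx.choose_spec⟩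
  haveI : Finite A := hA
  haveI : (EtCoh.pull g).Additive := (EtCoh.pullPushAdj g).left_adjoint_additive
  have hA' : ∀ a : A, (ℓ : ℤ) • a = 0 := fun a => by
    refine (hθ _ (geomPt x) l₀).1 ?_
    show germ _ _ l₀ (θ ((ℓ : ℤ) • a)) = germ _ _ l₀ (θ 0)
    rw [map_zsmul, map_zero]
    refine congrArg (germ _ _ l₀) ?_
    have h0 : ((ℓ : ℤ) • 𝟙 ((EtCoh.pull g).obj ((phiAb f q).obj (Zl ℓ)))) = 0 := by
      rw [← CategoryTheory.Functor.map_id, ← Functor.map_zsmul, killed_phiAb f q ℓ (ZMod.natCast_self ℓ), Functor.map_zero]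
    exact congrArg (fun a' : _ ⟶ (EtCoh.pull g).obj ((phiAb f q).obj (Zl ℓ)) => a'.hom.app (op U) (θ a)) h0
  obtain ⟨r, a, hgen, hind⟩ := exists_coords (ℓ := ℓ) (A : Type (u + 1)) hA'
  let W := (EtModW.pull Λ g).obj ((phiMod Λ f q).obj M)
  refine ⟨U, l₀, ModuleCat.of Λ (Fin r → M), inferInstanceAs (Module.Finite Λ (Fin r → M)),
    ModuleCat.ofHom (thetaT f q g M hM U fun j => θ (a j)), fun Ω _ _ ζ l => ?_⟩
  let V := (phiAb f q).obj (Zl ℓ)
  choose e he using fun j => (bijective_unitStalk g ζ V).2 (germ ζ _ l (θ (a j)))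
  have hsum : ∀ c : Fin r → ℤ, unitStalk g ζ V (∑ j, c j • e j) = germ ζ _ l (θ (∑ j, c j • a j)) := fun c => by
    rw [map_sum, map_sum]
    refine Eq.trans ?_ (map_sum _ _ _).symm
    refine Finset.sum_congr rfl fun j _ => ?_
    rw [map_zsmul, map_zsmul, he]
    exact (map_zsmul _ _ _).symm
  have hb := bijective_sumNu f q M hM (ζ ≫ g) e (fun v => ?_) (fun c hc => ?_)
  · have hkey : (fun m : Fin r → M => Mdl.germM ζ W l (thetaT f q g M hM U (fun j => θ (a j)) m)) =
        unitStalk g ζ ((phiMod Λ f q).obj M) ∘ forgetStalk (ζ ≫ g) _ ∘ sumNu f q M hM (ζ ≫ g) e := by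
      funext m
      simp only [Function.comp_apply]
      rw [sumNu_apply, map_sum, thetaT_apply]
      refine Eq.trans (map_sum _ _ _) (Eq.trans ?_ (map_sum _ _ _).symm)
      refine Finset.sum_congr rfl fun j _ => ?_
      refine Eq.trans ?_ (nuT_unitStalk f q g M hM ζ (m j) (e j))
      rw [he]
      exact ((congrArg (forgetStalk ζ W)
        ((Scheme.pointSmallEtale ζ).toPresheafFiber_naturality_apply (nuT f q g M hM (m j)).hom U l (θ (a j)))).trans
        (forgetStalk_germ ζ W U l _)).symm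
    exact hkey ▸ ((bijective_unitStalk g ζ _).comp ((bijective_forgetStalk (ζ ≫ g) _).comp hb))
  · obtain ⟨v', hv'⟩ := (hθ Ω ζ l).2 (unitStalk g ζ V v)
    obtain ⟨c, rfl⟩ := hgen v'
    exact ⟨c, (bijective_unitStalk g ζ V).1 (hv'.symm.trans (hsum c).symm)⟩
  · refine hind c ((hθ Ω ζ l).1 ?_)
    refine (hsum c).symm.trans ?_
    rw [hc, map_zero]
    exact ((congrArg (germ ζ _ l) (map_zero θ.hom)).trans (map_zero _)).symm

include hM in
/-- Higher direct images of constant sheaves killed by a prime are constructible. -/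
theorem isConstructible_phiMod_of_prime (hV : EtPBC.IsConstructible ((phiAb f q).obj (Zl.{u} ℓ))) :
    EtModW.IsConstructible Λ ((phiMod Λ f q).obj M) := fun U hU => by
  obtain ⟨n, T, t, h1, h2, h3, h4, h5⟩ := hV U hU
  exact ⟨n, T, t, h1, h2, h3, h4, fun i => isFTLocConst_pull_phiMod f q (t i) M hM (h5 i)⟩

end Groth.Agent.EtModRpushLib

end
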